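import Groth.Agent.IdealRedLib.FibreCone
import Mathlib.Algebra.MvPolynomial.Funext

/-!
# Minimal reductions over an infinite residue field
-/

set_option autoImplicit false
set_option backward.isDefEq.respectTransparency false

universe u

open IdealRed

namespace Groth.Agent.IdealRedLib

variable {R : Type u} [CommRing R]

lemma prod_sub_prod_mem {σ : Type*} {b c : Ideal R} (hcb : c ≤ b) (x y : σ → R)
    (hx : ∀ i, x i ∈ b) (hy : ∀ i, y i ∈ b) (hxy : ∀ i, x i - y i ∈ c) :
    ∀ s : Multiset σ, (s.map x).prod ∈ b ^ Multiset.card s ∧ (s.map y).prod ∈ b ^ Multiset.card s ∧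
      (s.map x).prod - (s.map y).prod ∈ c * b ^ (Multiset.card s - 1) := by
  intro s
  induction s using Multiset.induction_on with
  | empty => simp
  | cons a s ih =>
    obtain ⟨h₁, h₂, h₃⟩ := ih
    simp only [Multiset.map_cons, Multiset.prod_cons, Multiset.card_cons, Nat.add_sub_cancel]
    refine ⟨by rw [pow_succ']; exact Ideal.mul_mem_mul (hx a) h₁,
      by rw [pow_succ']; exact Ideal.mul_mem_mul (hy a) h₂, ?_⟩
    have e : x a * (s.map x).prod - y a * (s.map y).prod =
        x a * ((s.map x).prod - (s.map y).prod) + (x a - y a) * (s.map y).prod := by ring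
    rw [e]
    refine add_mem ?_ (Ideal.mul_mem_mul (hxy a) h₂)
    rcases Nat.eq_zero_or_pos (Multiset.card s) with h0 | h0
    · rw [Multiset.card_eq_zero.1 h0]; simp
    · have := Ideal.mul_mem_mul (hx a) h₃
      rwa [mul_left_comm, ← pow_succ', Nat.sub_add_cancel h0] at this

lemma eval_sub_eval_mem {σ : Type*} {b c : Ideal R} (hcb : c ≤ b) (x y : σ → R)
    (hx : ∀ i, x i ∈ b) (hy : ∀ i, y i ∈ b) (hxy : ∀ i, x i - y i ∈ c) {h : ℕ}
    {f : MvPolynomial σ R} (hf : f.IsHomogeneous h) :
    MvPolynomial.eval x f - MvPolynomial.eval y f ∈ c * b ^ (h - 1) := by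
  classical
  rw [MvPolynomial.eval_eq, MvPolynomial.eval_eq, ← Finset.sum_sub_distrib]
  refine Ideal.sum_mem _ fun d hd => ?_
  rw [← mul_sub]
  refine Ideal.mul_mem_left _ _ ?_
  have hcard : Multiset.card (Finsupp.toMultiset d) = h := by
    rw [Finsupp.card_toMultiset]
    exact (hf.degree_eq_sum_deg_support hd).symm
  have key := (prod_sub_prod_mem hcb x y hx hy hxy (Finsupp.toMultiset d)).2.2
  rw [hcard, Finsupp.toMultiset_map, Finsupp.toMultiset_map] at key
  simp only [Finsupp.prod_toMultiset] at key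
  rw [Finsupp.prod_mapDomain_index (fun _ => pow_zero _) (fun _ _ _ => pow_add _ _ _),
    Finsupp.prod_mapDomain_index (fun _ => pow_zero _) (fun _ _ _ => pow_add _ _ _)] at key
  exact key

variable [IsNoetherianRing R] [IsLocalRing R]

local notation "𝔪" => IsLocalRing.maximalIdeal R

/-- A minimal generating set of a minimal reduction is analytically independent. -/
theorem indep_of_isMinimalReduction (hinf : Infinite (IsLocalRing.ResidueField R)) {a b : Ideal R}
    (hab : IsMinimalReduction a b) {t : ℕ} (v : Fin t → R) (hva : Ideal.span (Set.range v) = a)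
    (ht : a.spanFinrank = t) :
    ∀ (h : ℕ) (f : MvPolynomial (Fin t) R), f.IsHomogeneous h → MvPolynomial.eval v f ∈ b ^ h * 𝔪 →
      ∀ d : Fin t →₀ ℕ, f.coeff d ∈ 𝔪 := by
  intro h f hf hfv
  by_contra hcon
  obtain ⟨d, hd⟩ := not_forall.1 hcon
  let π := IsLocalRing.residue R
  have hv : ∀ i, v i ∈ b := fun i => hab.1.1 (hva ▸ Ideal.subset_span ⟨i, rfl⟩)
  have hF : MvPolynomial.map π f ≠ 0 := fun e => hd (by
    have := congrArg (MvPolynomial.coeff d) e
    rwa [MvPolynomial.coeff_map, MvPolynomial.coeff_zero, IsLocalRing.residue_eq_zero_iff] at this)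
  rcases Nat.eq_zero_or_pos h with rfl | hpos
  · have hC : f = MvPolynomial.C (f.coeff 0) := MvPolynomial.totalDegree_eq_zero_iff_eq_C.1
      ((MvPolynomial.totalDegree_zero_iff_isHomogeneous _).2 hf)
    rw [pow_zero, Ideal.one_eq_top, Ideal.top_mul, hC, MvPolynomial.eval_C] at hfv
    apply hd
    classical
    rw [hC, MvPolynomial.coeff_C]
    split_ifs
    · exact hfv
    · exact zero_mem _
  obtain ⟨p₀, hp₀⟩ : ∃ p, MvPolynomial.eval p (MvPolynomial.map π f) ≠ 0 := by
    by_contra hall
    exact hF (MvPolynomial.funext fun p => by simpa using not_exists.1 hall p)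
  choose p hp using fun i => IsLocalRing.residue_surjective (p₀ i)
  have hfp : IsUnit (MvPolynomial.eval p f) := by
    rw [← IsLocalRing.residue_ne_zero_iff_isUnit]
    rwa [show π = IsLocalRing.residue R from rfl, MvPolynomial.eval_map, ← funext hp,
      ← Function.comp_def, ← MvPolynomial.eval₂_comp] at hp₀
  obtain ⟨j, hj⟩ : ∃ j, IsUnit (p j) := by
    by_contra hall
    refine (IsLocalRing.notMem_maximalIdeal.2 hfp) ?_
    rw [MvPolynomial.eval_eq]
    refine Ideal.sum_mem _ fun e he => Ideal.mul_mem_left _ _ ?_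
    have he' := (hf.degree_eq_sum_deg_support he).symm
    obtain ⟨i, hi⟩ : ∃ i, i ∈ e.support := by
      by_contra hne
      rw [Finset.eq_empty_of_forall_notMem (not_exists.1 hne), Finset.sum_empty] at he'
      omega
    exact Ideal.prod_mem _ hi (Ideal.pow_mem_of_mem _ (by
      simpa using not_exists.1 hall i) _ (Nat.pos_of_ne_zero (Finsupp.mem_support_iff.1 hi)))
  obtain ⟨q, hq⟩ := hj.exists_left_inv
  let g := q * v j
  let u : Fin t → R := fun i => v i - p i * g
  let c := Ideal.span (Set.range fun i : {i // i ≠ j} => u i)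
  have huj : u j = 0 := by
    simp only [u, g, ← mul_assoc, mul_comm (p j) q, hq, one_mul, sub_self]
  have hu : ∀ i, u i ∈ c := fun i => by
    by_cases hi : i = j
    · rw [hi, huj]; exact zero_mem _
    · exact Ideal.subset_span ⟨⟨i, hi⟩, rfl⟩
  have hga : g ∈ a := Ideal.mul_mem_left _ _ (hva ▸ Ideal.subset_span ⟨j, rfl⟩)
  have hca : c ≤ a := Ideal.span_le.2 fun _ ⟨i, hi⟩ => hi ▸
    sub_mem (hva ▸ Ideal.subset_span ⟨i.1, rfl⟩) (Ideal.mul_mem_left _ _ hga)
  have hle : a ≤ c ⊔ Ideal.span {g} := by
    rw [← hva, Ideal.span_le]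
    rintro _ ⟨i, rfl⟩
    rw [show v i = u i + p i * g by simp [u]]
    exact add_mem (Submodule.mem_sup_left (hu i))
      (Submodule.mem_sup_right (Ideal.mul_mem_left _ _ (Ideal.mem_span_singleton_self g)))
  have hgh : g ^ h ∈ c * b ^ (h - 1) ⊔ b ^ h * 𝔪 := by
    have hd := eval_sub_eval_mem (c := c) (hca.trans hab.1.1) v (fun i => p i * g) hv
      (fun i => Ideal.mul_mem_left _ _ (hab.1.1 hga)) (fun i => hu i) hf
    have heq : MvPolynomial.eval (fun i => p i * g) f = MvPolynomial.eval p f * g ^ h := by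
      rw [MvPolynomial.eval_eq, MvPolynomial.eval_eq, Finset.sum_mul]
      refine Finset.sum_congr rfl fun e he => ?_
      rw [Finset.prod_congr rfl fun i _ => mul_pow (p i) g (e i), Finset.prod_mul_distrib,
        Finset.prod_pow_eq_pow_sum, show ∑ i ∈ e.support, e i = h from (hf.degree_eq_sum_deg_support he).symm,
        mul_assoc]
    rw [heq] at hd
    refine (Ideal.unit_mul_mem_iff_mem _ hfp).1 ?_
    rw [show MvPolynomial.eval p f * g ^ h =
      -(MvPolynomial.eval v f - MvPolynomial.eval p f * g ^ h) + MvPolynomial.eval v f by ring]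
    exact add_mem (Submodule.mem_sup_left (neg_mem hd)) (Submodule.mem_sup_right hfv)
  obtain ⟨⟨-, s, hs⟩, hmin⟩ := hab
  have hpow : ∀ k ≤ h, (c ⊔ Ideal.span {g}) ^ k ≤ c * b ^ (k - 1) ⊔ Ideal.span {g ^ k} := by
    intro k _
    induction k with
    | zero => simp
    | succ k ih =>
      rw [pow_succ]
      have hcg : c ⊔ Ideal.span {g} ≤ b :=
        sup_le (hca.trans ((hmin a ⟨hva ▸ Ideal.span_le.2 (Set.range_subset_iff.2 hv), s, hs⟩ le_rfl).le.trans
          (hva ▸ Ideal.span_le.2 (Set.range_subset_iff.2 hv))))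
          ((Ideal.span_singleton_le_iff_mem _).2 (hva ▸ Ideal.span_le.2 (Set.range_subset_iff.2 hv) <| hga))
      refine (Ideal.mul_mono_left (ih (by omega))).trans ?_
      rw [Ideal.sup_mul, Nat.add_sub_cancel]
      refine sup_le (le_trans ?_ le_sup_left) ?_
      · rw [mul_assoc]
        refine Ideal.mul_mono_right ((Ideal.mul_mono_right hcg).trans ?_)
        rw [← pow_succ]
        exact Ideal.pow_le_pow_right (by omega)
      · rw [Ideal.mul_sup, Ideal.span_singleton_mul_span_singleton, ← pow_succ]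
        refine sup_le (le_trans ?_ le_sup_left) le_sup_right
        rw [mul_comm]
        exact Ideal.mul_mono_right ((Ideal.span_singleton_le_iff_mem _).2
          (Ideal.pow_mem_pow (hcg (Submodule.mem_sup_right (Ideal.mem_span_singleton_self g))) k))
  have hred : IsReduction c b := by
    have hab' : a ≤ b := hva ▸ Ideal.span_le.2 (Set.range_subset_iff.2 hv)
    refine isReduction_of_le (s := s + h - 1) (hca.trans hab') (le_of_le_sup_mul_maximalIdeal ?_)
    rw [show s + h - 1 + 1 = s + h by omega]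
    conv_lhs => rw [pow_add_eq hs h]
    have h1 : a ^ h ≤ c * b ^ (h - 1) ⊔ b ^ h * 𝔪 :=
      (Ideal.pow_right_mono hle h).trans ((hpow h le_rfl).trans
        (sup_le le_sup_left ((Ideal.span_singleton_le_iff_mem _).2 hgh)))
    refine (Ideal.mul_mono_left h1).trans ?_
    rw [Ideal.sup_mul]
    refine sup_le_sup (le_of_eq ?_) (le_of_eq ?_)
    · rw [mul_assoc, ← pow_add, show h - 1 + s = s + h - 1 by omega]
    · rw [mul_comm _ 𝔪, mul_assoc, ← pow_add, add_comm h s]
  have hlt : c.spanFinrank ≤ t - 1 := by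
    refine (Submodule.spanFinrank_span_le_ncard_of_finite (Set.finite_range _)).trans ?_
    rw [← Set.image_univ]
    refine (Set.ncard_image_le Set.finite_univ).trans ?_
    simp [Set.ncard_univ, Nat.card_eq_fintype_card, Fintype.card_subtype_compl]
  rw [hmin c hred hca, ht] at hlt
  have := j.pos
  omega

theorem spanFinrank_eq_analyticSpread (hinf : Infinite (IsLocalRing.ResidueField R)) {a b : Ideal R}
    (hab : IsMinimalReduction a b) :
    ((Submodule.spanFinrank a : ℕ∞) : WithBot ℕ∞) = analyticSpread R b := by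
  obtain ⟨v, hv⟩ := Submodule.FG.exists_span_finset_card_eq_spanFinrank (IsNoetherian.noetherian a)
  let w : Fin v.card → R := fun i => (v.equivFin.symm i : R)
  have hw : Ideal.span (Set.range w) = a := by
    rw [show w = Subtype.val ∘ v.equivFin.symm from rfl, Set.range_comp, Equiv.range_eq_univ,
      Set.image_univ, Subtype.range_coe_subtype]
    simpa using hv.2
  have hwb : ∀ i, w i ∈ b := fun i => hab.1.1 (hw ▸ Ideal.subset_span ⟨i, rfl⟩)
  rw [← hv.1]
  exact le_antisymm (le_analyticSpread w hwb (indep_of_isMinimalReduction hinf hab w hw hv.1.symm))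
    (analyticSpread_le w hwb (hw.symm ▸ hab.1))

end Groth.Agent.IdealRedLib
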