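import Groth.Prelude.Def_IdealRed
import Mathlib.RingTheory.Nakayama
import Mathlib.RingTheory.Noetherian.Basic
import Mathlib.RingTheory.Artinian.Module
import Mathlib.LinearAlgebra.Matrix.Charpoly.LinearMap
import Mathlib.RingTheory.LocalRing.Basic
import Mathlib.Algebra.Module.Torsion.Basic
import Mathlib.RingTheory.LocalRing.RingHom.Basic

/-!
# Reductions of ideals: Nakayama, minimal reductions, integral dependence
-/

set_option autoImplicit false

universe u

open IdealRed Polynomial

namespace Groth.Agent.IdealRedLib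

variable {R : Type u} [CommRing R]

lemma isReduction_of_le {a b : Ideal R} {s : ℕ} (hab : a ≤ b) (h : b ^ (s + 1) ≤ a * b ^ s) :
    IsReduction a b :=
  ⟨hab, s, le_antisymm (by rw [pow_succ']; exact Ideal.mul_mono_left hab) h⟩

lemma isReduction_mono {a a' b : Ideal R} (h : IsReduction a b) (ha : a ≤ a') (ha' : a' ≤ b) :
    IsReduction a' b := by
  obtain ⟨-, s, hs⟩ := h
  exact isReduction_of_le ha' (hs.symm.le.trans (Ideal.mul_mono_left ha))

lemma pow_add_eq {a b : Ideal R} {s : ℕ} (h : a * b ^ s = b ^ (s + 1)) (j : ℕ) :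
    b ^ (s + j) = a ^ j * b ^ s := by
  induction j with
  | zero => simp
  | succ j ih => rw [pow_succ' a, mul_assoc a, ← ih, pow_add b s j, ← mul_assoc, h, ← pow_add, Nat.add_right_comm, ← Nat.add_assoc]

theorem isReduction_trans {a b c : Ideal R} (h₁ : IsReduction a b) (h₂ : IsReduction b c) :
    IsReduction a c := by
  obtain ⟨hab, s, hs⟩ := h₁
  obtain ⟨hbc, t, ht⟩ := h₂
  refine ⟨hab.trans hbc, t + s, ?_⟩
  rw [pow_add_eq ht, add_assoc, pow_add_eq ht, ← hs, mul_assoc]

lemma isReduction_refl (a : Ideal R) : IsReduction a a := ⟨le_rfl, 0, by simp⟩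

section Local

variable [IsNoetherianRing R] [IsLocalRing R]

local notation "𝔪" => IsLocalRing.maximalIdeal R

lemma le_of_le_sup_mul_maximalIdeal {I J : Ideal R} (h : I ≤ J ⊔ 𝔪 * I) : I ≤ J :=
  Submodule.le_of_le_smul_of_le_jacobson_bot (IsNoetherian.noetherian I)
    (IsLocalRing.maximalIdeal_le_jacobson _) h

theorem isReduction_sup_iff {a b : Ideal R} (hab : a ≤ b) :
    IsReduction a b ↔ IsReduction (a ⊔ b * 𝔪) b := by
  refine ⟨fun h => isReduction_mono h le_sup_left (sup_le hab Ideal.mul_le_left), fun ⟨_, s, hs⟩ => ?_⟩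
  refine isReduction_of_le (s := s) hab (le_of_le_sup_mul_maximalIdeal ?_)
  conv_lhs => rw [← hs, Ideal.sup_mul]
  exact sup_le_sup le_rfl (le_of_eq (by ring))

/-- A generating set none of whose members is redundant modulo `b m` cuts `b m` in `m` times its span. -/
theorem inf_le_of_irredundant {b : Ideal R} (s : Finset R)
    (h : ∀ g ∈ s, g ∉ Ideal.span ((s : Set R) \ {g}) ⊔ b * 𝔪) :
    Ideal.span (s : Set R) ⊓ b * 𝔪 ≤ Ideal.span (s : Set R) * 𝔪 := by
  rintro x ⟨hx₁, hx₂⟩
  obtain ⟨c, rfl⟩ := Submodule.mem_span_finset'.1 hx₁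
  refine Ideal.sum_mem _ fun g _ => ?_
  by_cases hc : c g ∈ 𝔪
  · rw [smul_eq_mul, mul_comm (c g)]
    exact Ideal.mul_mem_mul (Ideal.subset_span g.2) hc
  · exfalso
    have hu : IsUnit (c g) := IsLocalRing.notMem_maximalIdeal.1 hc
    refine h g g.2 ((Ideal.unit_mul_mem_iff_mem _ hu).1 ?_)
    classical
    have e := Finset.add_sum_erase s.attach (fun i => c i • (i : R)) (Finset.mem_attach s g)
    have hrest : ∑ i ∈ s.attach.erase g, c i • (i : R) ∈ Ideal.span ((s : Set R) \ {(g : R)}) :=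
      Ideal.sum_mem _ fun i hi => Ideal.mul_mem_left _ _ (Ideal.subset_span
        ⟨i.2, fun hh => (Finset.mem_erase.1 hi).1 (Subtype.ext hh)⟩)
    have hx : ∑ i ∈ s.attach, c i • (i : R) ∈ Ideal.span ((s : Set R) \ {(g : R)}) ⊔ b * 𝔪 :=
      Submodule.mem_sup_right hx₂
    rw [← e] at hx
    simpa using Submodule.sub_mem _ hx (Submodule.mem_sup_left hrest)

theorem exists_irredundant {a b : Ideal R} (hab : IsReduction a b) :
    ∃ s : Finset R, Ideal.span (s : Set R) ≤ a ∧ IsReduction (Ideal.span (s : Set R)) b ∧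
      ∀ g ∈ s, g ∉ Ideal.span ((s : Set R) \ {g}) ⊔ b * 𝔪 := by
  classical
  have hne : ∃ n, ∃ s : Finset R, s.card = n ∧ Ideal.span (s : Set R) ≤ a ∧
      IsReduction (Ideal.span (s : Set R)) b := by
    obtain ⟨s, hs⟩ := IsNoetherian.noetherian a
    exact ⟨s.card, s, rfl, le_of_eq hs, (show Ideal.span (s : Set R) = a from hs).symm ▸ hab⟩
  obtain ⟨s, hcard, hle, hred⟩ := Nat.find_spec hne
  refine ⟨s, hle, hred, fun g hg hmem => ?_⟩
  have hle' : Ideal.span ((s.erase g : Finset R) : Set R) ≤ Ideal.span (s : Set R) :=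
    Ideal.span_mono (by simp)
  have hlt := Finset.card_erase_lt_of_mem hg
  refine Nat.find_min hne (hcard ▸ hlt) ⟨_, rfl, hle'.trans hle, ?_⟩
  refine (isReduction_sup_iff (hle'.trans hred.1)).2 (isReduction_mono hred ?_
    (sup_le (hle'.trans hred.1) Ideal.mul_le_left))
  rw [Ideal.span_le]
  intro x hx
  by_cases hxg : x = g
  · rw [hxg]; simpa using hmem
  · exact Submodule.mem_sup_left (Ideal.subset_span (by simp [hxg, Finset.mem_coe.1 hx]))

theorem inf_mul_maximalIdeal {a b : Ideal R} (h : IsMinimalReduction a b) :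
    a ⊓ b * 𝔪 = a * 𝔪 := by
  refine le_antisymm ?_ (le_inf Ideal.mul_le_left (Ideal.mul_mono_left h.1.1))
  obtain ⟨s, hle, hred, hirr⟩ := exists_irredundant h.1
  have := inf_le_of_irredundant s hirr
  rwa [h.2 _ hred hle] at this

theorem exists_isMinimalReduction {a b : Ideal R} (hab : IsReduction a b) :
    ∃ c : Ideal R, c ≤ a ∧ IsMinimalReduction c b := by
  let M := b ⧸ (𝔪 • ⊤ : Submodule R b)
  haveI : IsArtinian R M := by
    haveI : Module.Finite R M := inferInstance
    haveI : Module.Finite (R ⧸ 𝔪) (b ⧸ (𝔪 • ⊤ : Submodule R b)) :=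
      Module.Finite.of_restrictScalars_finite R _ _
    letI := Ideal.Quotient.field 𝔪
    haveI : IsArtinian (R ⧸ 𝔪) (b ⧸ (𝔪 • ⊤ : Submodule R b)) := inferInstance
    exact isArtinian_of_surjective_algebraMap (R := R ⧸ 𝔪) Ideal.Quotient.mk_surjective
  let W : Ideal R → Submodule R M := fun c => (Submodule.comap b.subtype c).map (Submodule.mkQ _)
  have key : ∀ c c' : Ideal R, c ≤ b → W c ≤ W c' → c ≤ c' ⊔ b * 𝔪 := by
    intro c c' hc hW x hx
    obtain ⟨y, hy, hxy⟩ := hW ⟨⟨x, hc hx⟩, hx, rfl⟩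
    have h := (Submodule.Quotient.eq _).1 hxy
    have h' : x - (y : R) ∈ b * 𝔪 := by
      have := Submodule.mem_map_of_mem (f := b.subtype) h
      rw [Submodule.map_smul'', Submodule.map_top, Submodule.range_subtype, smul_eq_mul, mul_comm] at this
      simpa using neg_mem this
    rw [show x = (y : R) + (x - y) by ring]
    exact add_mem (Submodule.mem_sup_left hy) (Submodule.mem_sup_right h')
  obtain ⟨_, ⟨c₀, ⟨hc₀a, hc₀⟩, rfl⟩, hmin⟩ := IsArtinian.set_has_minimal
    (W '' {c | c ≤ a ∧ IsReduction c b}) ⟨W a, a, ⟨le_rfl, hab⟩, rfl⟩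
  obtain ⟨s, hle, hred, hirr⟩ := exists_irredundant hc₀
  refine ⟨Ideal.span (s : Set R), hle.trans hc₀a, hred, fun c' hc' hc'le => le_antisymm hc'le ?_⟩
  have hW : W c₀ ≤ W c' := by
    have hle' : W c' ≤ W c₀ := Submodule.map_mono (Submodule.comap_mono (hc'le.trans hle))
    have := hmin (W c') ⟨c', ⟨hc'le.trans (hle.trans hc₀a), hc'⟩, rfl⟩
    exact (eq_of_le_of_not_lt hle' this).ge
  refine le_of_le_sup_mul_maximalIdeal fun x hx => ?_
  obtain ⟨y, hy, z, hz, rfl⟩ := Submodule.mem_sup.1 (key c₀ c' hc₀.1 hW (hle hx))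
  refine add_mem (Submodule.mem_sup_left hy) (Submodule.mem_sup_right ?_)
  rw [mul_comm]
  exact inf_le_of_irredundant s hirr ⟨by simpa using sub_mem hx (hc'le hy), hz⟩

end Local

section Integral

/-- `r` is integrally dependent on `a`. -/
def IntDep (a : Ideal R) (r : R) : Prop :=
  ∃ p : R[X], p.Monic ∧ 0 < p.natDegree ∧ (∀ j : ℕ, p.coeff j ∈ a ^ (p.natDegree - j)) ∧ p.eval r = 0

lemma IntDep.mono {a a' : Ideal R} {r : R} (h : IntDep a r) (ha : a ≤ a') : IntDep a' r := by
  obtain ⟨p, h₁, h₂, h₃, h₄⟩ := h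
  exact ⟨p, h₁, h₂, fun j => Ideal.pow_right_mono ha _ (h₃ j), h₄⟩

theorem intDep_of_isReduction [IsNoetherianRing R] [Nontrivial R] {a b : Ideal R}
    (h : IsReduction a b) {r : R} (hr : r ∈ b) : IntDep a r := by
  obtain ⟨-, s, hs⟩ := h
  obtain ⟨p, hp, -, hc, he⟩ := LinearMap.exists_monic_and_natDegree_eq_and_coeff_mem_pow_and_aeval_eq_zero
    R (algebraMap R (Module.End R (b ^ s : Ideal R)) r) a (by
      rintro _ ⟨x, rfl⟩
      rw [Submodule.mem_smul_top_iff]
      change r * (x : R) ∈ a • (b ^ s)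
      rw [smul_eq_mul, hs, pow_succ']
      exact Ideal.mul_mem_mul hr x.2)
  have hev : p.eval r * r ^ s = 0 := by
    have := congrArg (fun φ : Module.End R (b ^ s : Ideal R) => ((φ ⟨r ^ s, Ideal.pow_mem_pow hr s⟩ : _) : R)) he
    rw [aeval_algebraMap_apply_eq_algebraMap_eval] at this
    simpa using this
  refine ⟨X ^ (s + 1) * p, (monic_X_pow _).mul hp, ?_, fun j => ?_, ?_⟩
  · rw [(monic_X_pow _).natDegree_mul hp, natDegree_X_pow]; omega
  · rw [(monic_X_pow _).natDegree_mul hp, natDegree_X_pow, coeff_X_pow_mul']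
    split_ifs with hj
    · convert hc (j - (s + 1)) using 2; omega
    · exact zero_mem _
  · rw [eval_mul, eval_pow, eval_X, pow_succ, mul_right_comm, mul_comm (r ^ s), hev, zero_mul]

theorem isReduction_of_intDep {a : Ideal R} {r : R} (h : IntDep a r) :
    IsReduction a (a ⊔ Ideal.span {r}) := by
  obtain ⟨p, hp, hd, hc, he⟩ := h
  set n := p.natDegree with hn
  suffices ∀ c : Ideal R, a ≤ c → r ∈ c → c ≤ a ⊔ Ideal.span {r} → c ^ n ≤ a * c ^ (n - 1) by
    refine isReduction_of_le (s := n - 1) le_sup_left ?_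
    rw [Nat.sub_add_cancel hd]
    exact this _ le_sup_left (Submodule.mem_sup_right (Ideal.mem_span_singleton_self r)) le_rfl
  intro c hac hrc hcle
  have hrn : r ^ n ∈ a * c ^ (n - 1) := by
    rw [eval_eq_sum_range, Finset.sum_range_succ, ← hn] at he
    rw [show p.coeff n = 1 from hn ▸ hp.coeff_natDegree, one_mul] at he
    rw [eq_neg_of_add_eq_zero_right he]
    refine neg_mem (Ideal.sum_mem _ fun j hj => ?_)
    have hj : j < n := Finset.mem_range.1 hj
    have h1 : a ^ (n - j) * c ^ j ≤ a * c ^ (n - 1) := by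
      rw [show n - j = (n - j - 1) + 1 by omega, pow_succ', mul_assoc]
      refine Ideal.mul_mono_right ((Ideal.mul_mono_left (Ideal.pow_right_mono hac _)).trans ?_)
      rw [← pow_add]
      exact le_of_eq (by congr 1; omega)
    exact h1 (Ideal.mul_mem_mul (hc j) (Ideal.pow_mem_pow hrc j))
  have : ∀ k ≤ n, c ^ k ≤ a * c ^ (k - 1) ⊔ Ideal.span {r ^ k} := by
    intro k hk
    induction k with
    | zero => simp
    | succ k ih =>
      rw [pow_succ]
      refine (Ideal.mul_mono_left (ih (by omega))).trans ?_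
      rw [Ideal.sup_mul, Nat.add_sub_cancel]
      refine sup_le (le_trans ?_ le_sup_left) ((Ideal.mul_mono_right hcle).trans ?_)
      · rcases Nat.eq_zero_or_pos k with rfl | hk'
        · simp only [zero_tsub, pow_zero, Ideal.one_eq_top, Ideal.mul_top]
          exact Ideal.mul_le_left (I := a) (J := c)
        · rw [mul_assoc, ← pow_succ, Nat.sub_add_cancel hk']
      · rw [Ideal.mul_sup, Ideal.span_singleton_mul_span_singleton, ← pow_succ]
        refine sup_le (le_trans ?_ le_sup_left) le_sup_right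
        rw [mul_comm]
        exact Ideal.mul_mono_right ((Ideal.span_singleton_le_iff_mem _).2 (Ideal.pow_mem_pow hrc k))
  exact (this n le_rfl).trans (sup_le le_rfl ((Ideal.span_singleton_le_iff_mem _).2 hrn))

theorem isReduction_of_forall_intDep [IsNoetherianRing R] {a b : Ideal R} (hab : a ≤ b)
    (h : ∀ r ∈ b, IntDep a r) : IsReduction a b := by
  classical
  obtain ⟨s, hs⟩ := IsNoetherian.noetherian b
  suffices ∀ t : Finset R, t ⊆ s → IsReduction a (a ⊔ Ideal.span (t : Set R)) by
    have h' := this s subset_rfl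
    rwa [show a ⊔ Ideal.span (s : Set R) = b by
      rw [show Ideal.span (s : Set R) = b from hs, sup_eq_right.2 hab]] at h'
  intro t ht
  induction t using Finset.induction_on with
  | empty => simpa using isReduction_refl a
  | insert g t _ ih =>
    have hg : g ∈ b := hs ▸ Submodule.subset_span (ht (Finset.mem_insert_self g t))
    refine isReduction_trans (ih ((Finset.subset_insert g t).trans ht)) ?_
    have := isReduction_of_intDep ((h g hg).mono (le_sup_left (b := Ideal.span (t : Set R))))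
    rwa [sup_assoc, ← Ideal.span_union, Set.union_singleton, ← Finset.coe_insert] at this

end Integral

end Groth.Agent.IdealRedLib
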