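import Groth.Agent.IdealRedLib.Basic
import Groth.Agent.DimLib.Algebra
import Mathlib.RingTheory.ReesAlgebra
import Mathlib.RingTheory.MvPolynomial.Homogeneous
import Mathlib.RingTheory.LocalRing.ResidueField.Basic
import Mathlib.Algebra.Polynomial.Expand
import Mathlib.RingTheory.Ideal.MinimalPrime.Localization
import Mathlib.Algebra.Module.SpanRank

/-!
# The fibre cone and the analytic spread
-/

set_option autoImplicit false
set_option backward.isDefEq.respectTransparency false

universe u

open IdealRed Polynomial

namespace Groth.Agent.IdealRedLib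

variable {R : Type u} [CommRing R] [IsLocalRing R]

local notation "𝔪" => IsLocalRing.maximalIdeal R

/-- The fibre cone's ideal, on coefficients. -/
theorem mem_fibIdeal_iff {b : Ideal R} (f : reesAlgebra b) :
    f ∈ Ideal.map (algebraMap R (reesAlgebra b)) 𝔪 ↔ ∀ i, (f : R[X]).coeff i ∈ b ^ i * 𝔪 := by
  constructor
  · intro hf
    induction hf using Submodule.span_induction with
    | mem x hx =>
      obtain ⟨r, hr, rfl⟩ := hx
      intro i
      rw [Subalgebra.coe_algebraMap, Polynomial.algebraMap_apply, Algebra.algebraMap_self,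
        RingHom.id_apply, coeff_C]
      split_ifs with h
      · subst h; simpa using hr
      · exact zero_mem _
    | zero => intro i; simp
    | add x y _ _ hx hy => intro i; rw [Subalgebra.coe_add, coeff_add]; exact add_mem (hx i) (hy i)
    | smul c x _ hx =>
      intro i
      rw [smul_eq_mul, Subalgebra.coe_mul, coeff_mul]
      refine Ideal.sum_mem _ fun p hp => ?_
      rw [← Finset.mem_antidiagonal.1 hp, pow_add, mul_assoc]
      exact Ideal.mul_mem_mul (c.2 p.1) (hx p.2)
  · intro hf
    have hmon : ∀ i (c : R), c ∈ b ^ i * 𝔪 → ∃ h : monomial i c ∈ reesAlgebra b,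
        (⟨monomial i c, h⟩ : reesAlgebra b) ∈ Ideal.map (algebraMap R (reesAlgebra b)) 𝔪 := by
      intro i c hc
      induction hc using Submodule.mul_induction_on' with
      | mem_mul_mem r hr s hs =>
        refine ⟨reesAlgebra.monomial_mem.2 (Ideal.mul_mem_right _ _ hr), ?_⟩
        rw [show (⟨monomial i (r * s), _⟩ : reesAlgebra b) =
          ⟨monomial i r, reesAlgebra.monomial_mem.2 hr⟩ * algebraMap R (reesAlgebra b) s from
            Subtype.ext (by simp [Polynomial.monomial_mul_C])]
        exact Ideal.mul_mem_left _ _ (Ideal.mem_map_of_mem _ hs)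
      | add x _ y _ hx hy =>
        obtain ⟨h₁, hx⟩ := hx
        obtain ⟨h₂, hy⟩ := hy
        have h₃ : monomial i (x + y) ∈ reesAlgebra b := by rw [map_add]; exact add_mem h₁ h₂
        refine ⟨h₃, ?_⟩
        rw [show (⟨monomial i (x + y), h₃⟩ : reesAlgebra b) = ⟨_, h₁⟩ + ⟨_, h₂⟩ from
          Subtype.ext (map_add (monomial i) x y)]
        exact Ideal.add_mem _ hx hy
    have : f = ∑ i ∈ (f : R[X]).support, (⟨monomial i ((f : R[X]).coeff i),
        reesAlgebra.monomial_mem.2 (f.2 i)⟩ : reesAlgebra b) :=
      Subtype.ext (by rw [AddSubmonoidClass.coe_finsetSum]; exact (f : R[X]).as_sum_support)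
    rw [this]
    exact Ideal.sum_mem _ fun i _ => (hmon i _ (hf i)).2

variable (b : Ideal R)

/-- The ring structure of the fibre cone, found quickly. -/
noncomputable instance (priority := high) fibreConeCommRing : CommRing (FibreCone R b) :=
  Ideal.Quotient.commRing _

/-- The semiring structure of the fibre cone, through its ring structure. -/
noncomputable instance (priority := high) fibreConeSemiring : Semiring (FibreCone R b) :=
  (fibreConeCommRing b).toCommSemiring.toSemiring

/-- The quotient map onto the fibre cone. -/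
noncomputable abbrev mkF : reesAlgebra b →+* FibreCone R b := Ideal.Quotient.mk _

lemma mkF_eq_zero_iff (f : reesAlgebra b) :
    mkF b f = 0 ↔ ∀ i, (f : R[X]).coeff i ∈ b ^ i * 𝔪 :=
  Ideal.Quotient.eq_zero_iff_mem.trans (mem_fibIdeal_iff f)

/-- The class of `r X^i`. -/
noncomputable def monF (i : ℕ) (r : (b ^ i : Ideal R)) : FibreCone R b :=
  mkF b ⟨monomial i (r : R), reesAlgebra.monomial_mem.2 r.2⟩

/-- If all classes of degree one are integral, so is the fibre cone. -/
theorem isIntegral_of_gens {S : Type*} [CommRing S] (φ : S →+* FibreCone R b)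
    (hR : ∀ r : R, φ.IsIntegralElem (mkF b (algebraMap R _ r)))
    (h : ∀ r : (b ^ 1 : Ideal R), φ.IsIntegralElem (monF b 1 r)) : φ.IsIntegral := by
  intro x
  obtain ⟨f, rfl⟩ := Ideal.Quotient.mk_surjective x
  algebraize [φ]
  have hmon : ∀ n (c : R), c ∈ b ^ n → ∃ hc : monomial n c ∈ reesAlgebra b,
      mkF b ⟨monomial n c, hc⟩ ∈ integralClosure S (FibreCone R b) := by
    intro n
    induction n with
    | zero =>
      intro c _
      refine ⟨reesAlgebra.monomial_mem.2 (by simp), ?_⟩
      exact hR c
    | succ n ih =>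
      intro c hc
      rw [pow_succ] at hc
      induction hc using Submodule.mul_induction_on' with
      | mem_mul_mem r hr s hs =>
        obtain ⟨hr', hr''⟩ := ih r hr
        refine ⟨reesAlgebra.monomial_mem.2 (by rw [pow_succ]; exact Ideal.mul_mem_mul hr hs), ?_⟩
        convert Subalgebra.mul_mem _ hr'' (h ⟨s, by simpa using hs⟩) using 1
        rw [monF, ← map_mul]
        exact congrArg _ (Subtype.ext (by simp [Polynomial.monomial_mul_monomial]))
      | add x _ y _ hx hy =>
        obtain ⟨h₁, hx⟩ := hx
        obtain ⟨h₂, hy⟩ := hy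
        refine ⟨by rw [map_add]; exact add_mem h₁ h₂, ?_⟩
        convert Subalgebra.add_mem _ hx hy using 1
        exact (congrArg (mkF b) (Subtype.ext (by simp))).trans (map_add (mkF b) _ _)
  have : f = ∑ i ∈ (f : R[X]).support, (⟨monomial i ((f : R[X]).coeff i),
      reesAlgebra.monomial_mem.2 (f.2 i)⟩ : reesAlgebra b) :=
    Subtype.ext (by rw [AddSubmonoidClass.coe_finsetSum]; exact (f : R[X]).as_sum_support)
  rw [this, map_sum]
  exact Subalgebra.sum_mem _ fun i _ => (hmon i _ (f.2 i)).2

/-- The residue field acts on the fibre cone. -/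
noncomputable def resHom : IsLocalRing.ResidueField R →+* FibreCone R b :=
  Ideal.Quotient.lift 𝔪 ((mkF b).comp (algebraMap R (reesAlgebra b))) fun r hr =>
    Ideal.Quotient.eq_zero_iff_mem.2 (Ideal.mem_map_of_mem _ hr)

variable {b} {t : ℕ} (v : Fin t → R) (hv : ∀ i, v i ∈ b)

/-- The polynomial map given by elements of `b`, placed in degree one. -/
noncomputable def polF : MvPolynomial (Fin t) (IsLocalRing.ResidueField R) →+* FibreCone R b :=
  MvPolynomial.eval₂Hom (resHom b) fun i => monF b 1 ⟨v i, by simpa using hv i⟩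

lemma polF_map (f : MvPolynomial (Fin t) R) :
    polF v hv (MvPolynomial.map (IsLocalRing.residue R) f) =
      mkF b (MvPolynomial.eval₂ (algebraMap R (reesAlgebra b))
        (fun i => ⟨monomial 1 (v i), reesAlgebra.monomial_mem.2 (by simpa using hv i)⟩) f) := by
  have h : ((polF v hv).comp (MvPolynomial.map (IsLocalRing.residue R))) =
      (mkF b).comp (MvPolynomial.eval₂Hom (algebraMap R (reesAlgebra b))
        fun i => ⟨monomial 1 (v i), reesAlgebra.monomial_mem.2 (by simpa using hv i)⟩) := by
    apply MvPolynomial.ringHom_ext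
    · intro r
      simp only [polF, RingHom.comp_apply, MvPolynomial.map_C, MvPolynomial.eval₂Hom_C]
      rfl
    · intro i
      simp [polF, monF]
  exact RingHom.congr_fun h f

omit [IsLocalRing R] in
lemma coe_eval₂_rees (f : MvPolynomial (Fin t) R) :
    ((MvPolynomial.eval₂ (algebraMap R (reesAlgebra b))
        (fun i => ⟨monomial 1 (v i), reesAlgebra.monomial_mem.2 (by simpa using hv i)⟩) f : reesAlgebra b) : R[X]) =
      MvPolynomial.eval₂ Polynomial.C (fun i => monomial 1 (v i)) f :=
  (MvPolynomial.eval₂_comp_left (reesAlgebra b).val.toRingHom _ _ f).trans rfl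

omit [IsLocalRing R] in
lemma eval₂_monomial_of_homogeneous {f : MvPolynomial (Fin t) R} {h : ℕ} (hf : f.IsHomogeneous h) :
    MvPolynomial.eval₂ Polynomial.C (fun i => monomial 1 (v i)) f = monomial h (MvPolynomial.eval v f) := by
  rw [MvPolynomial.eval₂_eq, MvPolynomial.eval_eq, map_sum]
  refine Finset.sum_congr rfl fun d hd => ?_
  have hd' : ∑ i ∈ d.support, d i = h := by
    rw [← Finsupp.degree_apply]
    exact (hf.degree_eq_sum_deg_support hd).symm
  simp only [Polynomial.monomial_pow, one_mul]
  have : ∀ s : Finset (Fin t), ∏ i ∈ s, monomial (d i) (v i ^ d i) = monomial (∑ i ∈ s, d i) (∏ i ∈ s, v i ^ d i) := by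
    intro s
    induction s using Finset.cons_induction with
    | empty => simp
    | cons a s ha ih => rw [Finset.prod_cons, Finset.sum_cons, Finset.prod_cons, ih, monomial_mul_monomial]
  rw [this, C_mul_monomial, hd']

omit [IsLocalRing R] in
lemma coeff_eval₂_monomial (f : MvPolynomial (Fin t) R) (h : ℕ) :
    (MvPolynomial.eval₂ Polynomial.C (fun i => monomial 1 (v i)) f).coeff h =
      MvPolynomial.eval v (MvPolynomial.homogeneousComponent h f) := by
  classical
  conv_lhs => rw [← MvPolynomial.sum_homogeneousComponent f]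
  rw [MvPolynomial.eval₂_sum, finsetSum_coeff]
  simp only [eval₂_monomial_of_homogeneous v (MvPolynomial.homogeneousComponent_isHomogeneous _ f),
    coeff_monomial, Finset.sum_ite_eq', Finset.mem_range]
  split_ifs with hh
  · rfl
  · rw [MvPolynomial.homogeneousComponent_eq_zero _ _ (by omega), map_zero]

include hv

/-- Analytically independent elements give an injective polynomial map. -/
theorem injective_polF
    (hind : ∀ (h : ℕ) (f : MvPolynomial (Fin t) R), f.IsHomogeneous h →
      MvPolynomial.eval v f ∈ b ^ h * 𝔪 → ∀ d : Fin t →₀ ℕ, f.coeff d ∈ 𝔪) :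
    Function.Injective (polF v hv) := by
  classical
  refine (injective_iff_map_eq_zero _).2 fun F hF => ?_
  obtain ⟨f, rfl⟩ := MvPolynomial.map_surjective (IsLocalRing.residue R) IsLocalRing.residue_surjective F
  rw [polF_map, mkF_eq_zero_iff] at hF
  ext d
  rw [MvPolynomial.coeff_map, MvPolynomial.coeff_zero, IsLocalRing.residue_eq_zero_iff]
  have h₁ := hF d.degree
  rw [coe_eval₂_rees v hv, coeff_eval₂_monomial] at h₁
  have := hind _ _ (MvPolynomial.homogeneousComponent_isHomogeneous _ f) h₁ d
  rwa [MvPolynomial.coeff_homogeneousComponent, if_pos rfl] at this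

/-- A reduction makes the fibre cone integral over the polynomial ring on its generators. -/
theorem isIntegral_polF [IsNoetherianRing R] (hab : IsReduction (Ideal.span (Set.range v)) b) :
    (polF v hv).IsIntegral := by
  set φ := polF v hv
  have hR : ∀ r : R, mkF b (algebraMap R _ r) = φ (MvPolynomial.C (IsLocalRing.residue R r)) := fun r => by
    simp only [φ, polF, MvPolynomial.eval₂Hom_C]
    rfl
  refine isIntegral_of_gens b φ (fun r => by rw [hR]; exact φ.isIntegralElem_map) fun ⟨r, hr⟩ => ?_
  obtain ⟨p, hp, -, hc, he⟩ := intDep_of_isReduction hab (by simpa using hr : r ∈ b)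
  set n := p.natDegree
  have hmem : ∀ k (c : R), c ∈ Ideal.span (Set.range v) ^ k → ∀ hc : c ∈ b ^ k, monF b k ⟨c, hc⟩ ∈ φ.range := by
    intro k
    induction k with
    | zero => exact fun c _ _ => ⟨_, (hR c).symm⟩
    | succ k ih =>
      intro c hc
      rw [pow_succ] at hc
      induction hc using Submodule.mul_induction_on' with
      | mem_mul_mem x hx y hy =>
        intro hcb
        obtain ⟨c', rfl⟩ := Ideal.mem_span_range_iff_exists_fun.1 hy
        have hx' : x ∈ b ^ k := Ideal.pow_right_mono hab.1 _ hx
        have : monF b (k + 1) ⟨_, hcb⟩ = monF b k ⟨x, hx'⟩ *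
            ∑ i, mkF b (algebraMap R _ (c' i)) * monF b 1 ⟨v i, by simpa using hv i⟩ := by
          simp only [monF, ← map_mul, ← map_sum]
          refine congrArg _ (Subtype.ext ?_)
          simp only [Subalgebra.coe_mul, AddSubmonoidClass.coe_finsetSum, Subalgebra.coe_algebraMap,
            Polynomial.algebraMap_eq, C_mul_monomial, ← map_sum, monomial_mul_monomial]
        rw [this]
        refine Subring.mul_mem _ (ih x hx hx') (Subring.sum_mem _ fun i _ => Subring.mul_mem _ ⟨_, (hR _).symm⟩ ?_)
        exact ⟨MvPolynomial.X i, by simp [φ, polF]⟩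
      | add x hx y hy ihx ihy =>
        intro hcb
        have hx' : x ∈ b ^ (k + 1) := Ideal.pow_right_mono hab.1 _ (by rwa [pow_succ])
        have hy' : y ∈ b ^ (k + 1) := Ideal.pow_right_mono hab.1 _ (by rwa [pow_succ])
        have : monF b (k + 1) ⟨x + y, hcb⟩ = monF b (k + 1) ⟨x, hx'⟩ + monF b (k + 1) ⟨y, hy'⟩ := by
          simp only [monF, ← map_add]
          exact congrArg _ (Subtype.ext (by simp))
        rw [this]
        exact Subring.add_mem _ (ihx hx') (ihy hy')
  choose q hq using fun j => RingHom.mem_range.1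
    (hmem (n - j) (p.coeff j) (hc j) (Ideal.pow_right_mono hab.1 _ (hc j)))
  refine ⟨X ^ n + ∑ j ∈ Finset.range n, Polynomial.C (q j) * X ^ j, ?_, ?_⟩
  · refine monic_X_pow_add ((Polynomial.degree_sum_le _ _).trans_lt ?_)
    exact (Finset.sup_lt_iff (WithBot.bot_lt_coe n)).2 fun j hj =>
      (degree_C_mul_X_pow_le j _).trans_lt (WithBot.coe_lt_coe.2 (Finset.mem_range.1 hj))
  · rw [eval₂_add, eval₂_finsetSum]
    simp only [Polynomial.C_mul_X_pow_eq_monomial, eval₂_monomial, eval₂_X_pow, hq]
    rw [monF, ← map_pow]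
    simp only [monF, ← map_pow, ← map_mul, ← map_sum, ← map_add]
    rw [mkF_eq_zero_iff]
    intro i
    simp only [Subalgebra.coe_add, AddSubmonoidClass.coe_finsetSum, Subalgebra.coe_mul,
      SubmonoidClass.coe_pow, Polynomial.monomial_pow, one_mul, monomial_mul_monomial]
    rw [Finset.sum_congr rfl (g := fun j => monomial n (p.coeff j * r ^ j)) fun j hj => by
      rw [Nat.sub_add_cancel (Finset.mem_range.1 hj).le], ← map_sum, ← map_add, coeff_monomial]
    rw [eval_eq_sum_range, Finset.sum_range_succ, show p.coeff p.natDegree = 1 from hp.coeff_natDegree,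
      one_mul, add_comm] at he
    rw [he]
    split_ifs <;> exact zero_mem _

/-- The analytic spread is at most the number of generators of a reduction. -/
theorem analyticSpread_le [IsNoetherianRing R] (hab : IsReduction (Ideal.span (Set.range v)) b) :
    analyticSpread R b ≤ (t : WithBot ℕ∞) := by
  algebraize [polF v hv]
  haveI : Algebra.IsIntegral (MvPolynomial (Fin t) (IsLocalRing.ResidueField R)) (FibreCone R b) :=
    ⟨isIntegral_polF v hv hab⟩
  refine (Order.krullDim_le_of_strictMono _ DimLib.strictMono_comap_of_isIntegral :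
    ringKrullDim (FibreCone R b) ≤ ringKrullDim (MvPolynomial (Fin t) (IsLocalRing.ResidueField R))).trans ?_
  have := MvPolynomial.ringKrullDim_of_isNoetherianRing (R := IsLocalRing.ResidueField R) (ι := Fin t)
  rw [ringKrullDim_eq_zero_of_field, zero_add, Nat.card_fin] at this
  exact this.le

/-- Analytically independent elements are no more than the analytic spread. -/
theorem le_analyticSpread [IsNoetherianRing R]
    (hind : ∀ (h : ℕ) (f : MvPolynomial (Fin t) R), f.IsHomogeneous h →
      MvPolynomial.eval v f ∈ b ^ h * 𝔪 → ∀ d : Fin t →₀ ℕ, f.coeff d ∈ 𝔪) :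
    (t : WithBot ℕ∞) ≤ analyticSpread R b := by
  obtain ⟨P, hP, hcomap⟩ := Ideal.exists_comap_eq_of_mem_minimalPrimes_of_injective
    (injective_polF v hv hind) (⊥ : Ideal (MvPolynomial (Fin t) (IsLocalRing.ResidueField R)))
    (by simp [IsDomain.minimalPrimes_eq_singleton_bot])
  letI : Algebra (IsLocalRing.ResidueField R) (FibreCone R b ⧸ P) :=
    ((Ideal.Quotient.mk P).comp (resHom b)).toAlgebra
  haveI : Algebra.FiniteType (IsLocalRing.ResidueField R) (FibreCone R b ⧸ P) := by
    haveI : IsScalarTower R (IsLocalRing.ResidueField R) (FibreCone R b ⧸ P) :=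
      IsScalarTower.of_algebraMap_eq fun r => rfl
    exact Algebra.FiniteType.of_restrictScalars_finiteType R _ _
  let g : MvPolynomial (Fin t) (IsLocalRing.ResidueField R) →ₐ[IsLocalRing.ResidueField R] FibreCone R b ⧸ P :=
    { (Ideal.Quotient.mk P).comp (polF v hv) with
      commutes' := fun r => by
        change Ideal.Quotient.mk P (polF v hv (MvPolynomial.C r)) = _
        simp only [polF, MvPolynomial.eval₂Hom_C]
        rfl }
  have hg : Function.Injective g := by
    refine (injective_iff_map_eq_zero g).2 fun x hx => ?_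
    have : x ∈ P.comap (polF v hv) := Ideal.mem_comap.2 (Ideal.Quotient.eq_zero_iff_mem.1 hx)
    rwa [hcomap, Ideal.mem_bot] at this
  have hai : AlgebraicIndependent (IsLocalRing.ResidueField R) (g ∘ MvPolynomial.X) :=
    (MvPolynomial.algebraicIndependent_X _ _).map' hg
  obtain ⟨s, -, -, -, hdim, htr⟩ := DimLib.exists_normalization (k := IsLocalRing.ResidueField R)
    (A := FibreCone R b ⧸ P)
  refine le_trans ?_ (ringKrullDim_quotient_le P)
  rw [hdim, Nat.cast_le]
  simpa [htr] using hai.lift_cardinalMk_le_trdeg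

omit hv in
set_option maxHeartbeats 800000 in
/-- The fibre cones of `b` and of its powers have the same dimension. -/
theorem analyticSpread_pow (b : Ideal R) {t : ℕ} (ht : 0 < t) :
    analyticSpread R (b ^ t) = analyticSpread R b := by
  let ψ : reesAlgebra (b ^ t) →+* reesAlgebra b :=
    ((Polynomial.expand R t).toRingHom.comp (reesAlgebra (b ^ t)).val.toRingHom).codRestrict
      (reesAlgebra b).toSubring fun f i => by
        change (Polynomial.expand R t (f : R[X])).coeff i ∈ b ^ i
        rw [coeff_expand ht]
        split_ifs with h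
        · have := f.2 (i / t)
          rwa [← pow_mul, Nat.mul_div_cancel' h] at this
        · exact zero_mem _
  have hψ : ∀ f, ((ψ f : reesAlgebra b) : R[X]) = Polynomial.expand R t (f : R[X]) := fun _ => rfl
  let φ : FibreCone R (b ^ t) →+* FibreCone R b := Ideal.Quotient.lift _ ((mkF b).comp ψ) fun f hf => by
    rw [RingHom.comp_apply, mkF_eq_zero_iff]
    intro i
    rw [hψ, coeff_expand ht]
    split_ifs with h
    · have := (mem_fibIdeal_iff f).1 hf (i / t)
      rwa [← pow_mul, Nat.mul_div_cancel' h] at this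
    · exact zero_mem _
  have hinj : Function.Injective φ := by
    refine (injective_iff_map_eq_zero φ).2 fun x hx => ?_
    obtain ⟨f, rfl⟩ := Ideal.Quotient.mk_surjective x
    refine (mkF_eq_zero_iff _ f).2 fun i => ?_
    have h₁ : mkF b (ψ f) = 0 := hx
    have := (mkF_eq_zero_iff b (ψ f)).1 h₁ (t * i)
    rw [hψ, coeff_expand_mul' ht, pow_mul] at this
    exact this
  have hint : φ.IsIntegral := by
    refine isIntegral_of_gens b φ (fun r => ?_) fun ⟨r, hr⟩ => ?_
    · have : mkF b (algebraMap R _ r) = φ (mkF (b ^ t) (algebraMap R _ r)) :=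
        congrArg (mkF b) (Subtype.ext (by rw [hψ]; simp))
      rw [this]
      exact φ.isIntegralElem_map
    · letI := φ.toAlgebra
      refine IsIntegral.of_pow (n := t) ht (?_ : φ.IsIntegralElem _)
      have hr' : r ^ t ∈ (b ^ t) ^ 1 := by
        rw [pow_one]; exact Ideal.pow_mem_pow (by simpa using hr) t
      have : monF b 1 ⟨r, hr⟩ ^ t = φ (monF (b ^ t) 1 ⟨r ^ t, hr'⟩) := by
        rw [monF, ← map_pow]
        exact congrArg (mkF b) (Subtype.ext (by rw [hψ]; simp [Polynomial.monomial_pow]))
      rw [this]
      exact φ.isIntegralElem_map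
  exact @DimLib.ringKrullDim_eq_of_isIntegral _ _ _ _ φ.toAlgebra (@Algebra.IsIntegral.mk _ _ _ _ φ.toAlgebra hint) hinj

end Groth.Agent.IdealRedLib
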